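import Mathlib

/-!
# Eigenvalues of an element of prime order in a complex representation (helper607)

`x` of order dividing the prime `p` in a group `G`, `ρ` a complex representation with `ρ x ≠ 1`.  If `x` is
conjugate to `x ^ a` for all `a` in a set `A` of residues mod `p`, then `ρ x` has at least `|A|` different
eigenvalues.  If the degree is `|A|`, elements commuting with `x` commute with each other on the module.
-/

set_option autoImplicit false

namespace Cfsg.Agent.H607.Eigen

open Module Module.End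

variable {V : Type*} [AddCommGroup V] [Module ℂ V] [FiniteDimensional ℂ V]

/-- A linear map of finite order `n` different from `1` has an eigenvalue different from `1`. -/
theorem exists_eigenvalue_ne_one (T : Module.End ℂ V) {n : ℕ} (hn : n ≠ 0) (hT : T ^ n = 1) (h1 : T ≠ 1) :
    ∃ ζ : ℂ, ζ ^ n = 1 ∧ ζ ≠ 1 ∧ ∃ v : V, v ≠ 0 ∧ T v = ζ • v := by
  classical
  set W : Submodule ℂ V := LinearMap.range (T - 1) with hW
  have hWT : ∀ w ∈ W, T w ∈ W := by
    rintro _ ⟨v, rfl⟩
    refine ⟨T v, ?_⟩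
    simp [LinearMap.sub_apply]
  have hWne : W ≠ ⊥ := by
    intro h
    apply h1
    rw [hW, LinearMap.range_eq_bot] at h
    exact sub_eq_zero.1 h
  have hgeom : (∑ i ∈ Finset.range n, T ^ i) * (T - 1) = 0 := by
    rw [geom_sum_mul, hT, sub_self]
  have hkill : ∀ w ∈ W, (∑ i ∈ Finset.range n, T ^ i) w = 0 := by
    rintro _ ⟨v, rfl⟩
    have := congrArg (fun S : Module.End ℂ V => S v) hgeom
    simpa using this
  have : Nontrivial W := Submodule.nontrivial_iff_ne_bot.2 hWne
  obtain ⟨ζ, hζ⟩ := Module.End.exists_eigenvalue (T.restrict hWT)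
  obtain ⟨w, hw⟩ := hζ.exists_hasEigenvector
  have hw0 : (w : V) ≠ 0 := fun h => hw.2 (Subtype.ext h)
  have hTw : T (w : V) = ζ • (w : V) := by
    have := congrArg Subtype.val hw.apply_eq_smul
    simpa using this
  have hpow : ∀ i : ℕ, (T ^ i) (w : V) = ζ ^ i • (w : V) := by
    intro i
    induction i with
    | zero => simp
    | succ i ih => rw [pow_succ', Module.End.mul_apply, ih, map_smul, hTw, smul_smul, pow_succ]
  refine ⟨ζ, ?_, ?_, w, hw0, hTw⟩
  · have h2 := hpow n
    rw [hT, Module.End.one_apply] at h2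
    have h3 : (ζ ^ n - 1) • (w : V) = 0 := by rw [sub_smul, one_smul, ← h2, sub_self]
    rcases smul_eq_zero.1 h3 with h4 | h4
    · exact sub_eq_zero.1 h4
    · exact absurd h4 hw0
  · rintro rfl
    have h2 := hkill w w.2
    rw [LinearMap.sum_apply] at h2
    simp only [hpow, one_pow, one_smul, Finset.sum_const, Finset.card_range] at h2
    rw [← Nat.cast_smul_eq_nsmul ℂ] at h2
    rcases smul_eq_zero.1 h2 with h4 | h4
    · exact hn (by exact_mod_cast h4)
    · exact hw0 h4

variable {G : Type*} [Group G]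

/-- The eigenvectors for the conjugate powers. -/
theorem exists_family (ρ : Representation ℂ G V) (p : ℕ) [hp : Fact p.Prime] {x : G} (hx : x ^ p = 1)
    (hρx : ρ x ≠ 1) (A : Finset ℕ) (hA : ∀ a ∈ A, a < p ∧ ∃ g : G, g * x * g⁻¹ = x ^ a) :
    ∃ (ζ : ℂ) (v : A → V), IsPrimitiveRoot ζ p ∧ (∀ a, v a ≠ 0) ∧ (∀ a : A, ρ x (v a) = ζ ^ (a : ℕ) • v a) ∧
      LinearIndependent ℂ v := by
  classical
  have hT : (ρ x) ^ p = 1 := by rw [← map_pow, hx, map_one]
  obtain ⟨ζ, hζp, hζ1, u, hu, hζu⟩ := exists_eigenvalue_ne_one (ρ x) hp.out.ne_zero hT hρx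
  have hprim : IsPrimitiveRoot ζ p := by
    rw [IsPrimitiveRoot.iff_orderOf]
    exact orderOf_eq_prime hζp hζ1
  choose g hg using fun a : A => (hA a a.2).2
  have hpow : ∀ i : ℕ, ρ (x ^ i) u = ζ ^ i • u := by
    intro i
    induction i with
    | zero => simp
    | succ i ih =>
      rw [pow_succ', map_mul, Module.End.mul_apply, ih, map_smul, hζu, smul_smul, pow_succ]
  have hv : ∀ a : A, ρ x (ρ (g a)⁻¹ u) = ζ ^ (a : ℕ) • ρ (g a)⁻¹ u := by
    intro a
    have h1 : x * (g a)⁻¹ = (g a)⁻¹ * x ^ (a : ℕ) := by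
      rw [← hg a]; group
    rw [← Module.End.mul_apply, ← map_mul, h1, map_mul, Module.End.mul_apply, hpow, map_smul]
  have hv0 : ∀ a : A, ρ (g a)⁻¹ u ≠ 0 := by
    intro a h
    apply hu
    have h2 : ρ (g a) (ρ (g a)⁻¹ u) = u := by
      rw [← Module.End.mul_apply, ← map_mul, mul_inv_cancel, map_one, Module.End.one_apply]
    rw [← h2, h, map_zero]
  refine ⟨ζ, fun a => ρ (g a)⁻¹ u, hprim, hv0, hv, ?_⟩
  have hinj : Function.Injective (fun a : A => ζ ^ (a : ℕ)) := by
    intro a b hab
    exact Subtype.ext (hprim.pow_inj (hA a a.2).1 (hA b b.2).1 hab)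
  exact Module.End.eigenvectors_linearIndependent' (ρ x) (fun a : A => ζ ^ (a : ℕ)) hinj _
    (fun a => ⟨Module.End.mem_eigenspace_iff.2 (hv a), hv0 a⟩)

theorem card_le_finrank (ρ : Representation ℂ G V) (p : ℕ) [hp : Fact p.Prime] {x : G} (hx : x ^ p = 1)
    (hρx : ρ x ≠ 1) (A : Finset ℕ) (hA : ∀ a ∈ A, a < p ∧ ∃ g : G, g * x * g⁻¹ = x ^ a) :
    A.card ≤ finrank ℂ V := by
  obtain ⟨ζ, v, -, -, -, hli⟩ := exists_family ρ p hx hρx A hA
  have := hli.fintype_card_le_finrank
  simpa using this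

/-- If the degree is the number of conjugate powers, the centralizer of `x` acts as a commutative
group. -/
theorem comm_of_card_eq (ρ : Representation ℂ G V) (p : ℕ) [hp : Fact p.Prime] {x : G} (hx : x ^ p = 1)
    (hρx : ρ x ≠ 1) (A : Finset ℕ) (hA : ∀ a ∈ A, a < p ∧ ∃ g : G, g * x * g⁻¹ = x ^ a)
    (hcard : finrank ℂ V ≤ A.card) {g h : G} (hg : g * x = x * g) (hh : h * x = x * h) :
    ρ g * ρ h = ρ h * ρ g := by
  classical
  obtain ⟨ζ, v, hprim, hv0, hv, hli⟩ := exists_family ρ p hx hρx A hA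
  have hspan : Submodule.span ℂ (Set.range v) = ⊤ := by
    apply hli.span_eq_top_of_card_eq_finrank'
    apply le_antisymm hli.fintype_card_le_finrank
    simpa using hcard
  let b : Basis A ℂ V := Basis.mk hli hspan.ge
  have hb : ∀ a, b a = v a := fun a => by rw [Basis.mk_apply]
  -- commuting maps are diagonal
  have key : ∀ {g : G}, g * x = x * g → ∀ a : A, ∃ c : ℂ, ρ g (v a) = c • v a := by
    intro g hg a
    refine ⟨b.repr (ρ g (v a)) a, ?_⟩
    have h1 : ρ x (ρ g (v a)) = ζ ^ (a : ℕ) • ρ g (v a) := by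
      rw [← Module.End.mul_apply, ← map_mul, ← hg, map_mul, Module.End.mul_apply, hv, map_smul]
    have h2 : ∀ c : A, b.repr (ρ x (ρ g (v a))) c = ζ ^ (c : ℕ) * b.repr (ρ g (v a)) c := by
      intro c
      conv_lhs => rw [← b.sum_repr (ρ g (v a))]
      rw [map_sum, map_sum, Finset.sum_apply']
      rw [Finset.sum_eq_single c]
      · have h6 : b.repr (v c) = Finsupp.single c 1 := by rw [← hb c, b.repr_self]
        rw [map_smul, hb, hv, map_smul, map_smul, h6]
        simp [mul_comm]
      · intro d _ hd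
        have h6 : b.repr (v d) = Finsupp.single d 1 := by rw [← hb d, b.repr_self]
        rw [map_smul, hb, hv, map_smul, map_smul, h6]
        simp [hd]
      · intro h
        exact absurd (Finset.mem_univ c) h
    have h3 : ∀ c : A, c ≠ a → b.repr (ρ g (v a)) c = 0 := by
      intro c hc
      have h4 := h2 c
      rw [h1, map_smul, Finsupp.smul_apply, smul_eq_mul] at h4
      have h5 : (ζ ^ (a : ℕ) - ζ ^ (c : ℕ)) * b.repr (ρ g (v a)) c = 0 := by
        rw [sub_mul, h4, sub_self]
      rcases mul_eq_zero.1 h5 with h6 | h6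
      · exfalso
        apply hc
        exact Subtype.ext (hprim.pow_inj (hA c c.2).1 (hA a a.2).1 (sub_eq_zero.1 h6).symm)
      · exact h6
    conv_lhs => rw [← b.sum_repr (ρ g (v a))]
    rw [Finset.sum_eq_single a]
    · rw [hb]
    · intro c _ hc
      rw [h3 c hc, zero_smul]
    · intro h
      exact absurd (Finset.mem_univ a) h
  refine b.ext fun a => ?_
  obtain ⟨c, hc⟩ := key hg a
  obtain ⟨d, hd⟩ := key hh a
  rw [hb, Module.End.mul_apply, Module.End.mul_apply, hc, hd, map_smul, map_smul, hc, hd, smul_smul,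
    smul_smul, mul_comm]

end Cfsg.Agent.H607.Eigen
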