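import Mathlib
import Cfsg.Agent.ClassicalGeometry.PoleCases
import Cfsg.Agent.ClassicalGeometry.PoleBridge
import Cfsg.Agent.S0732

/-!
# Pole counting when `p` divides the order exactly once (helper607)

A finite group `G`, `p² ∤ |G|`, `p ≥ 5`, acting like a subgroup of `PSL₂(K)` on the projective line, with an element
`u` of order `p`: either `⟨u⟩` is normal, or `G` is isomorphic to `PSL(2,p)` or to `PGL(2,p)`.
-/

set_option autoImplicit false

namespace Cfsg.Agent.H607.Count

open MulAction Finset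
open Cfsg.Agent.ClassicalGeometry.PoleCount Cfsg.Agent.ClassicalGeometry.PoleCount.Pole
open Cfsg.Agent.ClassicalGeometry.PoleWild

variable {p : ℕ} {K G Ω : Type*} [Group G] [MulAction G Ω] [Field K] (h : Pole p K G Ω)

section

variable [Finite G] [Fact p.Prime] [CharP K p]

theorem card_E (hsq : ¬ p ^ 2 ∣ Nat.card G) {x₀ : Ω} (hx₀ : x₀ ∈ Op p G Ω) : Nat.card (h.E x₀) = p := by
  have hp : p.Prime := Fact.out
  obtain ⟨n, hn⟩ := IsPGroup.iff_card.mp (h.isPGroup_E x₀)
  have h2 := two_le_card_E h hx₀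
  have h3 : Nat.card (h.E x₀) ∣ Nat.card G := Subgroup.card_subgroup_dvd_card _
  rw [hn] at h2 h3 ⊢
  have h4 : n ≠ 0 := by
    rintro rfl
    simp at h2
  have h5 : n < 2 := by
    by_contra hge
    exact hsq ((pow_dvd_pow p (not_lt.1 hge)).trans h3)
  have : n = 1 := by omega
  rw [this, pow_one]

include h in
/-- the orders -/
theorem exists_d (hp5 : 5 ≤ p) (hsq : ¬ p ^ 2 ∣ Nat.card G) {x₀ : Ω} (hx₀ : x₀ ∈ Op p G Ω)
    (hr : 2 ≤ (Op p G Ω).ncard) :
    ∃ d, (2 * d = p - 1 ∨ d = p - 1) ∧ Nat.card G = (p + 1) * p * d ∧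
      Nat.card (stabilizer G x₀) = p * d ∧ (Op p G Ω).ncard = p + 1 := by
  have hp : p.Prime := Fact.out
  have hE := card_E h hsq hx₀
  have hOp : (Op p G Ω).ncard = p + 1 := by
    obtain ⟨y, hy, heq, h1 | ⟨h1, h2, h3⟩ | ⟨h1, h2, h3, h4, h5, h6⟩⟩ := numbers h hx₀ hr
    · rw [h1, hE]
    · rw [hE] at h1; omega
    · rw [hE] at h1; omega
  obtain ⟨y, hy, heq, hcard, hn⟩ := exists_Oq h hx₀ hr
  have hle := card_stabilizer_le h hx₀
  rw [hE] at hle
  have hdvd : Nat.card (h.E x₀) ∣ Nat.card (stabilizer G x₀) :=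
    Subgroup.card_dvd_of_le (h.E_le_stabilizer x₀)
  rw [hE] at hdvd
  obtain ⟨d, hd⟩ := hdvd
  have hG : (Op p G Ω).ncard * Nat.card (stabilizer G x₀) = Nat.card G := by
    have h1 := (stabilizer G x₀).card_mul_index
    rw [MulAction.index_stabilizer, ← h.Op_eq_orbit hx₀] at h1
    rw [mul_comm]
    exact h1
  rw [hOp, hd] at hG
  have hGd : Nat.card G = (p + 1) * p * d := by rw [← hG]; ring
  rw [hd] at hle
  have hdle : d ≤ p - 1 := Nat.le_of_mul_le_mul_left hle hp.pos
  have hdpos : 0 < d := by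
    rcases Nat.eq_zero_or_pos d with h0 | h0
    · exfalso
      rw [h0, mul_zero] at hGd
      exact Nat.card_pos.ne' hGd
    · exact h0
  refine ⟨d, ?_, hGd, hd, hOp⟩
  rw [hOp, hE] at hn
  set s := Nat.card (stabilizer G y) with hs
  obtain ⟨q, rfl⟩ : ∃ q, p = q + 2 := ⟨p - 2, by omega⟩
  have h1 : (q + 2) * ((q + 1) * s) = (q + 2) * ((q + 3) * d) := by
    calc (q + 2) * ((q + 1) * s) = (2 + (q + 2 + 1) * (q + 2 - 2)) * s := by
          rw [Nat.add_sub_cancel]; ring
      _ = Nat.card G := by rw [← hn]; exact hcard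
      _ = (q + 2) * ((q + 3) * d) := by rw [hGd]; ring
  have h2 : (q + 1) * s = (q + 3) * d := Nat.eq_of_mul_eq_mul_left (by omega) h1
  have h3 : (q + 1) ∣ 2 * d := by
    have h4 : (q + 1) ∣ (q + 1) * d + 2 * d := by
      have : (q + 1) * d + 2 * d = (q + 1) * s := by rw [h2]; ring
      rw [this]
      exact dvd_mul_right _ _
    exact (Nat.dvd_add_right (dvd_mul_right _ _)).1 h4
  obtain ⟨t, ht⟩ := h3
  have h5 : q + 2 - 1 = q + 1 := rfl
  rw [h5] at hdle ⊢
  have ht2 : t ≤ 2 := by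
    by_contra hlt
    have h6 : (q + 1) * 3 ≤ (q + 1) * t := Nat.mul_le_mul le_rfl (by omega)
    omega
  have ht0 : t ≠ 0 := by
    rintro rfl
    omega
  rcases (show t = 1 ∨ t = 2 by omega) with rfl | rfl
  · left; omega
  · right; omega

include h in
/-- the number of conjugates of `u` in `⟨u⟩` -/
theorem exists_A (hsq : ¬ p ^ 2 ∣ Nat.card G) {x₀ : Ω} {u : G} (hu1 : u ≠ 1)
    (hup : u ^ p = 1) (hux : u • x₀ = x₀) {d : ℕ} (hd : Nat.card (stabilizer G x₀) = p * d) :
    ∃ A : Finset ℕ, d ≤ A.card ∧ ∀ a ∈ A, a < p ∧ ∃ g : G, g * u * g⁻¹ = u ^ a := by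
  classical
  letI := Fintype.ofFinite G
  have hp : p.Prime := Fact.out
  have hx₀ : x₀ ∈ Op p G Ω := ⟨u, hu1, hup, hux⟩
  have huE : u ∈ h.E x₀ := ⟨hux, hup⟩
  have hE := card_E h hsq hx₀
  set S := univ.filter (fun g : G => g • x₀ = x₀) with hS
  have hScard : Nat.card (stabilizer G x₀) = S.card := by
    rw [Nat.card_eq_fintype_card]
    exact Fintype.card_of_subtype _ (fun g => by simp [hS])
  set EF := univ.filter (fun g : G => g ∈ h.E x₀) with hEF
  have hEcard : Nat.card (h.E x₀) = EF.card := by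
    rw [Nat.card_eq_fintype_card]
    exact Fintype.card_of_subtype _ (fun g => by simp [hEF])
  have h1 : S.card ≤ EF.card * (S.image (fun g => g * u * g⁻¹)).card := by
    apply Finset.card_le_mul_card_image
    intro v hv
    obtain ⟨g₀, hg₀, hg₀v⟩ := Finset.mem_image.mp hv
    apply Finset.card_le_card_of_injOn (fun g => g₀⁻¹ * g)
    · intro g hg
      simp only [coe_filter, Set.mem_setOf_eq] at hg
      simp only [hS, mem_filter, mem_univ, true_and] at hg hg₀
      simp only [hEF, coe_filter, mem_univ, true_and, Set.mem_setOf_eq]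
      have h2 : (g₀⁻¹ * g) • x₀ = x₀ := by
        rw [mul_smul, hg.1, inv_smul_eq_iff, hg₀]
      apply h.mem_E_of_commute huE hu1 h2
      have h3 : g * u * g⁻¹ = g₀ * u * g₀⁻¹ := hg.2.trans hg₀v.symm
      have h4 : g * u = g₀ * u * g₀⁻¹ * g := by
        rw [← h3]; group
      calc g₀⁻¹ * g * u = g₀⁻¹ * (g * u) := by group
        _ = g₀⁻¹ * (g₀ * u * g₀⁻¹ * g) := by rw [h4]
        _ = u * (g₀⁻¹ * g) := by group
    · intro a _ b _ hab
      exact mul_left_cancel hab
  have hzp : h.E x₀ = Subgroup.zpowers u := by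
    symm
    apply Subgroup.eq_of_le_of_card_ge
    · rw [Subgroup.zpowers_le]; exact huE
    · rw [hE, Nat.card_zpowers, orderOf_eq_prime hup hu1]
  refine ⟨(Finset.range p).filter (fun a => ∃ g : G, g * u * g⁻¹ = u ^ a), ?_, ?_⟩
  · have h2 : (S.image (fun g => g * u * g⁻¹)) ⊆
        ((Finset.range p).filter (fun a => ∃ g : G, g * u * g⁻¹ = u ^ a)).image (fun a => u ^ a) := by
      intro v hv
      obtain ⟨g, hg, rfl⟩ := Finset.mem_image.mp hv
      simp only [hS, mem_filter, mem_univ, true_and] at hg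
      have hmem : g * u * g⁻¹ ∈ h.E x₀ := by
        refine ⟨?_, ?_⟩
        · rw [mul_smul, mul_smul, inv_smul_eq_iff.mpr hg.symm, hux, hg]
        · rw [conj_pow, hup, mul_one, mul_inv_cancel]
      rw [hzp] at hmem
      obtain ⟨a, ha⟩ := mem_powers_iff_mem_zpowers.2 hmem
      have ha' : u ^ a = g * u * g⁻¹ := ha
      rw [Finset.mem_image]
      refine ⟨a % p, ?_, ?_⟩
      · rw [Finset.mem_filter, Finset.mem_range]
        refine ⟨Nat.mod_lt _ hp.pos, g, ?_⟩
        rw [← ha', ← pow_mod_orderOf u a, orderOf_eq_prime hup hu1]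
      · rw [← ha', ← pow_mod_orderOf u a, orderOf_eq_prime hup hu1]
    have h3 := (Finset.card_le_card h2).trans Finset.card_image_le
    have h4 : p * d ≤ p * ((Finset.range p).filter (fun a => ∃ g : G, g * u * g⁻¹ = u ^ a)).card := by
      rw [← hd, hScard]
      refine h1.trans ?_
      rw [← hEcard, hE]
      exact Nat.mul_le_mul_left _ h3
    exact Nat.le_of_mul_le_mul_left h4 hp.pos
  · intro a ha
    rw [Finset.mem_filter, Finset.mem_range] at ha
    exact ha

include h in
/-- A single point in `Op`: the Sylow subgroup is normal. -/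
theorem normal_of_ncard (hsq : ¬ p ^ 2 ∣ Nat.card G) {x₀ : Ω} {u : G} (hu1 : u ≠ 1)
    (hup : u ^ p = 1) (hux : u • x₀ = x₀) (hr : ¬ 2 ≤ (Op p G Ω).ncard) :
    (Subgroup.zpowers u).Normal := by
  have hp : p.Prime := Fact.out
  have hx₀ : x₀ ∈ Op p G Ω := ⟨u, hu1, hup, hux⟩
  have huE : u ∈ h.E x₀ := ⟨hux, hup⟩
  have hE := card_E h hsq hx₀
  have hzp : h.E x₀ = Subgroup.zpowers u := by
    symm
    apply Subgroup.eq_of_le_of_card_ge
    · rw [Subgroup.zpowers_le]; exact huE
    · rw [hE, Nat.card_zpowers, orderOf_eq_prime hup hu1]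
  have hfin : (Op p G Ω).Finite := h.finite_Op
  have huniq : ∀ y ∈ Op p G Ω, y = x₀ := by
    intro y hy
    by_contra hne
    apply hr
    rw [← Set.ncard_pair hne]
    exact Set.ncard_le_ncard (by
      rintro z (rfl | rfl)
      · exact hy
      · exact hx₀) hfin
  rw [← hzp]
  refine ⟨fun n hn g => ?_⟩
  have hg : g • x₀ = x₀ := huniq _ (smul_mem_Op g hx₀)
  refine ⟨?_, ?_⟩
  · rw [mul_smul, mul_smul, inv_smul_eq_iff.mpr hg.symm, hn.1, hg]
  · rw [conj_pow, hn.2, mul_one, mul_inv_cancel]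

include h in
/-- A commutative group of exponent two acting like this (`p ≠ 2`) has order at most four. -/
theorem card_le_four (hp2 : p ≠ 2) (E : Subgroup G) (hE : ∀ g ∈ E, g * g = 1) : Nat.card E ≤ 4 := by
  classical
  have hp : p.Prime := Fact.out
  have hodd : Odd p := hp.odd_of_ne_two hp2
  rcases subsingleton_or_nontrivial E with hs | hn
  · rw [Nat.card_unique]; omega
  obtain ⟨t, ht⟩ := exists_ne (1 : E)
  have hpow : ∀ g ∈ E, g ^ p = g := by
    intro g hg
    obtain ⟨m, hm⟩ := hodd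
    rw [hm, pow_succ, pow_mul, sq, hE g hg, one_pow, one_mul]
  have hcomm : ∀ a ∈ E, ∀ b ∈ E, a * b = b * a := by
    intro a ha b hb
    have h1 := hE _ (E.mul_mem ha hb)
    have ha' : a⁻¹ = a := inv_eq_of_mul_eq_one_left (hE a ha)
    have hb' : b⁻¹ = b := inv_eq_of_mul_eq_one_left (hE b hb)
    have h2 : (a * b)⁻¹ = a * b := inv_eq_of_mul_eq_one_left h1
    rw [← h2, mul_inv_rev, ha', hb']
  have ht1 : (t : G) ≠ 1 := fun h1 => ht (Subtype.ext h1)
  obtain ⟨a, b, hab, hfix⟩ := h.two (t : G) (by rw [hpow _ t.2]; exact ht1)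
  -- `E` permutes `{a, b}`
  have hperm : ∀ g ∈ E, g • a = a ∨ g • a = b := by
    intro g hg
    apply (hfix _).1
    rw [← mul_smul, hcomm _ t.2 g hg, mul_smul, (hfix a).2 (Or.inl rfl)]
  -- the stabilizer of `a` in `E` has order at most two
  let E₀ : Subgroup G := E ⊓ stabilizer G a
  have hE₀ : Nat.card E₀ ≤ 2 := by
    obtain ⟨χ, hχ⟩ := h.chi a
    let f : E₀ → K := fun g => ((χ ⟨g, g.2.2⟩ : Kˣ) : K)
    have hf : Function.Injective f := by
      intro g g' hgg
      have h1 : χ ⟨g, g.2.2⟩ = χ ⟨g', g'.2.2⟩ := Units.ext hgg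
      have h2 : χ (⟨g, g.2.2⟩⁻¹ * ⟨g', g'.2.2⟩) = 1 := by
        rw [map_mul, map_inv, h1, inv_mul_cancel]
      have h3 := (hχ _).1 h2
      have h4 : ((g : G)⁻¹ * (g' : G)) ^ p = 1 := congrArg Subtype.val h3
      rw [hpow _ (E.mul_mem (E.inv_mem g.2.1) g'.2.1)] at h4
      exact Subtype.ext (inv_mul_eq_one.1 h4)
    have hf2 : ∀ g, f g = 1 ∨ f g = -1 := by
      intro g
      have h1 : (χ ⟨g, g.2.2⟩) * (χ ⟨g, g.2.2⟩) = 1 := by
        rw [← map_mul, ← map_one χ]
        congr 1
        exact Subtype.ext (hE _ g.2.1)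
      have h2 : f g * f g = 1 := by
        have := congrArg Units.val h1
        simpa using this
      exact mul_self_eq_one_iff.1 h2
    have h3 : Nat.card E₀ ≤ Nat.card ({1, -1} : Set K) := by
      refine Nat.card_le_card_of_injective (fun g => (⟨f g, by
        rcases hf2 g with h1 | h1 <;> simp [h1]⟩ : ({1, -1} : Set K))) ?_
      intro g g' hgg
      exact hf (congrArg Subtype.val hgg)
    refine h3.trans ?_
    rw [Nat.card_coe_set_eq]
    refine (Set.ncard_insert_le _ _).trans ?_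
    rw [Set.ncard_singleton]
  -- index at most two
  by_cases hall : ∀ g ∈ E, g • a = a
  · have h1 : E ≤ E₀ := fun g hg => ⟨hg, hall g hg⟩
    have h2 : Nat.card E ≤ Nat.card E₀ := Nat.card_le_card_of_injective _ (Subgroup.inclusion_injective h1)
    omega
  · push Not at hall
    obtain ⟨s, hs, hsa⟩ := hall
    have hsb : s • a = b := (hperm s hs).resolve_left hsa
    let F : E → E₀ × Bool := fun g =>
      if hg : (g : G) • a = a then (⟨g, g.2, hg⟩, true)
      else (⟨s⁻¹ * g, E.mul_mem (E.inv_mem hs) g.2, by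
        show (s⁻¹ * (g : G)) • a = a
        rw [mul_smul, (hperm g g.2).resolve_left hg, ← hsb, inv_smul_smul]⟩, false)
    have hF : Function.Injective F := by
      intro g g' hgg
      by_cases h1 : (g : G) • a = a <;> by_cases h2 : (g' : G) • a = a
      · simp only [F, dif_pos h1, dif_pos h2, Prod.mk.injEq] at hgg
        exact Subtype.ext (congrArg (fun t : E₀ => (t : G)) hgg.1)
      · simp [F, dif_pos h1, dif_neg h2] at hgg
      · simp [F, dif_neg h1, dif_pos h2] at hgg
      · simp only [F, dif_neg h1, dif_neg h2, Prod.mk.injEq, and_true] at hgg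
        exact Subtype.ext (mul_left_cancel (congrArg (fun t : E₀ => (t : G)) hgg))
    have h3 := Nat.card_le_card_of_injective F hF
    rw [Nat.card_prod, Nat.card_eq_fintype_card (α := Bool), Fintype.card_bool] at h3
    omega

end

end Cfsg.Agent.H607.Count
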