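import Mathlib
import Cfsg.Agent.H607.Count

/-!
# Identification with `PSL(2,p)` or `PGL(2,p)` (helper607)
-/

set_option autoImplicit false

namespace Cfsg.Agent.H607.Ident

open MulAction Finset
open Cfsg.Agent.ClassicalGeometry.PoleCount Cfsg.Agent.ClassicalGeometry.PoleCount.Pole
open Cfsg.Agent.ClassicalGeometry.PoleWild

/-! ### The semi-affine group of the field with eight elements -/

section eight

theorem card_eight : Nat.card (GaloisField 2 3) = 8 := by
  rw [GaloisField.card 2 3 (by norm_num)]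
  norm_num

theorem aut_cube (φ : GaloisField 2 3 ≃+* GaloisField 2 3) (x : GaloisField 2 3) : φ (φ (φ x)) = x := by
  let ψ : GaloisField 2 3 ≃ₐ[ZMod 2] GaloisField 2 3 :=
    { φ with
      commutes' := fun r => by
        have h1 : (φ : GaloisField 2 3 →+* GaloisField 2 3).comp (algebraMap (ZMod 2) (GaloisField 2 3)) =
          algebraMap (ZMod 2) (GaloisField 2 3) := Subsingleton.elim _ _
        exact congrArg (fun f : ZMod 2 →+* GaloisField 2 3 => f r) h1 }
  have hcard : Nat.card (GaloisField 2 3 ≃ₐ[ZMod 2] GaloisField 2 3) = 3 := by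
    rw [IsGalois.card_aut_eq_finrank, GaloisField.finrank 2 (by norm_num)]
  have h1 : ψ ^ 3 = 1 := by
    have h0 : ψ ^ Nat.card (GaloisField 2 3 ≃ₐ[ZMod 2] GaloisField 2 3) = 1 := pow_card_eq_one'
    rwa [hcard] at h0
  have h2 := congrArg (fun f : GaloisField 2 3 ≃ₐ[ZMod 2] GaloisField 2 3 => f x) h1
  exact h2

theorem semiaffine_pow (σ : Equiv.Perm (GaloisField 2 3)) (hσ : σ ∈ Cfsg.semiaffineGroup (GaloisField 2 3)) :
    σ ^ 42 = 1 := by
  obtain ⟨a, b, φ, hσ⟩ := hσ
  have h3 : ∃ c d : GaloisField 2 3, ∀ x, (σ ^ 3) x = c * x + d := by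
    refine ⟨a * (φ a * φ (φ a)), a * (φ a * φ (φ b)) + a * φ b + b, fun x => ?_⟩
    rw [pow_succ, sq, Equiv.Perm.mul_apply, Equiv.Perm.mul_apply, hσ, hσ, hσ]
    rw [map_add, map_mul, map_add, map_mul, map_add, map_mul, aut_cube]
    ring
  obtain ⟨c, d, hτ⟩ := h3
  set τ := σ ^ 3 with hτdef
  have hn : ∀ n : ℕ, ∃ e : GaloisField 2 3, ∀ x, (τ ^ n) x = c ^ n * x + e := by
    intro n
    induction n with
    | zero => exact ⟨0, fun x => by simp⟩
    | succ n ih =>
      obtain ⟨e, he⟩ := ih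
      refine ⟨c ^ n * d + e, fun x => ?_⟩
      rw [pow_succ, Equiv.Perm.mul_apply, hτ, he]
      ring
  have hc : c ≠ 0 := by
    rintro rfl
    have h1 : τ 0 = τ 1 := by rw [hτ, hτ]; ring
    exact zero_ne_one (τ.injective h1)
  have hc7 : c ^ 7 = 1 := by
    have := Fintype.ofFinite (GaloisField 2 3)
    have h1 := FiniteField.pow_card_sub_one_eq_one c hc
    rwa [← Nat.card_eq_fintype_card, card_eight] at h1
  obtain ⟨e, he⟩ := hn 7
  rw [hc7] at he
  have h2 : σ ^ 42 = τ ^ 7 * τ ^ 7 := by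
    rw [hτdef, ← pow_mul, ← pow_add]
  rw [h2]
  ext1 x
  rw [Equiv.Perm.mul_apply, he, he, one_mul, one_mul, add_assoc, CharTwo.add_self_eq_zero, add_zero,
    Equiv.Perm.one_apply]

end eight

variable {p : ℕ} {K G Ω : Type*} [Group G] [MulAction G Ω] [Field K] (h : Pole p K G Ω)

include h in
/-- **Identification.** -/
theorem ident [Finite G] [Fact p.Prime] [CharP K p] (hp5 : 5 ≤ p) (hsq : ¬ p ^ 2 ∣ Nat.card G)
    {x₀ : Ω} (hx₀ : x₀ ∈ Op p G Ω) (hr : 2 ≤ (Op p G Ω).ncard) {d : ℕ}
    (hd : 2 * d = p - 1 ∨ d = p - 1) (hG : Nat.card G = (p + 1) * p * d)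
    (hOp : (Op p G Ω).ncard = p + 1) :
    (d = p - 1 ∧ Nonempty (G ≃* Matrix.ProjGenLinGroup (Fin 2) (ZMod p))) ∨
      (2 * d = p - 1 ∧ Nonempty (G ≃* Matrix.ProjectiveSpecialLinearGroup (Fin 2) (ZMod p))) := by
  classical
  have hp : p.Prime := Fact.out
  have hfin : (Op p G Ω).Finite := h.finite_Op
  let α := {x : Ω // x ∈ Op p G Ω}
  have : Finite α := hfin
  have : Fintype α := Fintype.ofFinite α
  have hα : Fintype.card α = p + 1 := by
    rw [← Nat.card_eq_fintype_card, ← hOp]
    exact Nat.card_coe_set_eq _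
  let act : MulAction G α :=
    { smul := fun g x => ⟨g • x.1, smul_mem_Op g x.2⟩
      one_smul := fun x => Subtype.ext (one_smul G x.1)
      mul_smul := fun a b x => Subtype.ext (mul_smul a b x.1) }
  have hsm : ∀ (g : G) (x : α), ((g • x : α) : Ω) = g • (x : Ω) := fun g x => rfl
  let f : G →* Equiv.Perm α := MulAction.toPermHom G α
  have hfi : Function.Injective f := by
    rw [injective_iff_map_eq_one]
    intro g hg
    have hfix : ∀ x : α, g • (x : Ω) = x := by
      intro x
      have h1 : f g x = x := by rw [hg]; rfl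
      exact congrArg Subtype.val h1
    obtain ⟨a, b, c, hab, hac, hbc⟩ : ∃ a b c : α, a ≠ b ∧ a ≠ c ∧ b ≠ c := by
      have : 2 < Fintype.card α := by rw [hα]; omega
      exact Fintype.two_lt_card_iff.1 this
    exact h.eq_one_of_three (fun e => hab (Subtype.ext e)) (fun e => hac (Subtype.ext e))
      (fun e => hbc (Subtype.ext e)) (hfix a) (hfix b) (hfix c)
  let e : G ≃* f.range := MonoidHom.ofInjective hfi
  have htr : MulAction.IsPretransitive f.range α := by
    refine ⟨fun x y => ?_⟩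
    obtain ⟨g, hg⟩ := h.exists_smul_eq x.2 y.2
    exact ⟨⟨f g, g, rfl⟩, Subtype.ext hg⟩
  have hcard : Nat.card f.range = (p + 1) * p * d := by
    rw [← hG]
    exact Nat.card_congr e.symm.toEquiv
  have hdp : d < p := by
    have := hp.pos
    omega
  rcases Cfsg.Agent.S0732.result hp hα f.range hcard hdp with ⟨h1, ⟨t⟩⟩ | ⟨h1, ⟨t⟩⟩ | ⟨q, hq, h1, h2, t, h3⟩
  · exact Or.inl ⟨h1, ⟨e.trans t⟩⟩
  · exact Or.inr ⟨h1, ⟨e.trans t⟩⟩
  exfalso
  -- the case `p = 7`
  have hd1 : d ≠ 1 := by omega
  have hdq : d = q := h2.resolve_left hd1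
  subst hdq
  have hd3 : d = 3 := by
    by_contra hne
    have h4 : 2 * d + 2 < 2 ^ d := by
      have h5 : 4 ≤ d := by
        by_contra hlt
        have h6 : d = 2 := by
          have := hq.two_le
          omega
        subst h6
        omega
      have h7 : ∀ m : ℕ, 4 ≤ m → 2 * m + 2 < 2 ^ m := by
        intro m hm
        induction m, hm using Nat.le_induction with
        | base => norm_num
        | succ m hm ih => rw [pow_succ]; omega
      exact h7 d h5
    omega
  subst hd3
  have hp7 : p = 7 := by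
    have : (2 : ℕ) ^ 3 = 8 := by norm_num
    omega
  subst hp7
  have hG168 : Nat.card G = 168 := by rw [hG]
  have hexp : ∀ g : G, g ^ 42 = 1 := by
    intro g
    apply hfi
    rw [map_pow, map_one]
    have h5 := semiaffine_pow _ (h3 ⟨f g, g, rfl⟩)
    have h6 : (t.permCongrHom (f g)) ^ 42 = 1 := h5
    rw [← map_pow, ← map_one t.permCongrHom] at h6
    exact t.permCongrHom.injective h6
  have : Fact (Nat.Prime 2) := ⟨Nat.prime_two⟩
  obtain ⟨S⟩ : Nonempty (Sylow 2 G) := inferInstance
  have hS : Nat.card S = 8 := by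
    rw [S.card_eq_multiplicity, hG168]
    have : Nat.factorization 168 2 = 3 := by
      rw [show (168 : ℕ) = 2 ^ 3 * 21 by norm_num, Nat.factorization_mul (by norm_num) (by norm_num),
        Finsupp.add_apply, Nat.Prime.factorization_pow Nat.prime_two, Finsupp.single_eq_same,
        Nat.factorization_eq_zero_of_not_dvd (by norm_num)]
    rw [this]
    norm_num
  have hS2 : ∀ g ∈ (S : Subgroup G), g * g = 1 := by
    intro g hg
    have h5 : g ^ 8 = 1 := by
      have h6 : (⟨g, hg⟩ : (S : Subgroup G)) ^ Nat.card (S : Subgroup G) = 1 := pow_card_eq_one'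
      have h7 : Nat.card (S : Subgroup G) = 8 := hS
      rw [h7] at h6
      exact congrArg Subtype.val h6
    have h6 := hexp g
    have h7 : orderOf g ∣ 2 := by
      have h8 := orderOf_dvd_of_pow_eq_one h5
      have h9 := orderOf_dvd_of_pow_eq_one h6
      have := Nat.dvd_gcd h8 h9
      have e1 : Nat.gcd 8 42 = 2 := by norm_num
      rwa [e1] at this
    rw [← sq]
    exact orderOf_dvd_iff_pow_eq_one.1 h7
  have h8 := Count.card_le_four h (by norm_num) (S : Subgroup G) hS2
  have h9 : Nat.card (S : Subgroup G) = 8 := hS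
  omega

end Cfsg.Agent.H607.Ident
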