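import Mathlib
import Cfsg.Agent.LieRecognition.FT61.ThmC2
import Cfsg.Agent.LieRecognition.FT61.Form
import Cfsg.Agent.H607.OrthHom

/-!
# From a faithful representation of degree `< p / 2` in characteristic `p` to `O₃` (helper607)

`G` finite with a Sylow `p`-subgroup `P` of order `p`, `ρ` a faithful representation of degree `n`, `2 n < p`, over a
field `k` of characteristic `p`.  Then `5 ≤ p` and there is a homomorphism of `G` to the orthogonal group of the form
`x₀² + x y` over `k` which is nontrivial on `P`.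
-/

set_option autoImplicit false

namespace Cfsg.Agent.H607.Three

open Module Matrix
open Cfsg.Agent.LieRecognition.FT61
open Cfsg.Agent.LieClassical.OrthThree

/-- The form on the three-dimensional module, in coordinates. -/
theorem exists_form_basis {k U D : Type*} [Field k] [AddCommGroup U] [Module k U] [Group D] [Finite D]
    (p : ℕ) [Fact p.Prime] [CharP k p] (hp : 7 ≤ p) (ρ : Representation k D U) {x : D}
    (hx : orderOf x = p) (N₁ : Subgroup D) {α : N₁ →* k}
    (hα : ∀ g : N₁, ∃ a : ℕ, (g : D) * x * (g : D)⁻¹ = x ^ a ∧ α g = (a : k))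
    (N : Subgroup D) (hN : N = Subgroup.zpowers x ⊔ N₁)
    (hTI : ∀ g : D, g ∉ N → ∀ y ∈ Subgroup.zpowers x, g⁻¹ * y * g ∈ N → y = 1) (v : U)
    (hv3 : ((ρ x - 1 : Module.End k U) ^ 3) v = 0) (hv2 : ((ρ x - 1 : Module.End k U) ^ 2) v ≠ 0)
    (hspan : ∀ w : U, w ∈ Submodule.span k {v, (ρ x - 1 : Module.End k U) v,
      ((ρ x - 1 : Module.End k U) ^ 2) v})
    (hvα : ∀ g : N₁, ρ g v = α g⁻¹ • v) :
    (2 : k) ≠ 0 ∧ ρ x ≠ 1 ∧ ∃ b : Basis (Fin 3) k U, ∀ (g : D) (u : U),
      b.repr (ρ g u) 1 ^ 2 - 2 * b.repr (ρ g u) 0 * b.repr (ρ g u) 2 =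
        b.repr u 1 ^ 2 - 2 * b.repr u 0 * b.repr u 2 := by
  classical
  obtain ⟨hΔ3, b, ⟨hx0, hx1, hx2⟩, hg⟩ := Form.exists_basis p hp ρ N₁ hα v hv3 hv2 hspan hvα
  have h2 : (2 : k) ≠ 0 := by
    intro h
    have h1 : ((2 : ℕ) : k) = 0 := by exact_mod_cast h
    rw [CharP.cast_eq_zero_iff k p] at h1
    have := Nat.le_of_dvd (by norm_num) h1
    omega
  refine ⟨h2, ?_, ?_⟩
  · intro h
    apply hv2
    rw [h, sub_self, zero_pow two_ne_zero, LinearMap.zero_apply]
  let c : Fin 3 → U →ₗ[k] k := fun i => b.coord i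
  let β : LinearMap.BilinForm k U := (c 0).smulRight (c 2) - (c 1).smulRight (c 1) +
    (c 2).smulRight (c 0)
  have hβ : ∀ u w, β u w = c 0 u * c 2 w - c 1 u * c 1 w + c 2 u * c 0 w := fun u w => rfl
  have hc : ∀ i j, c i (b j) = if i = j then 1 else 0 := by
    intro i j
    show b.coord i (b j) = _
    rw [Basis.coord_apply, Basis.repr_self, Finsupp.single_apply]
    simp [eq_comm]
  have hsum : ∀ u, u = c 0 u • b 0 + c 1 u • b 1 + c 2 u • b 2 := by
    intro u
    have h3 := b.sum_repr u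
    rw [Fin.sum_univ_three] at h3
    exact h3.symm
  -- invariance under `x` and `N₁`
  have hβx : ∀ u w, β (ρ x u) (ρ x w) = β u w := by
    have h3 : ∀ u, ρ x u = c 0 u • b 0 + (c 0 u + c 1 u) • b 1 +
        (c 0 u * (2 : k)⁻¹ + c 1 u + c 2 u) • b 2 := by
      intro u
      conv_lhs => rw [hsum u]
      rw [map_add, map_add, map_smul, map_smul, map_smul, hx0, hx1, hx2]
      module
    have h4 : ∀ u, c 0 (ρ x u) = c 0 u ∧ c 1 (ρ x u) = c 0 u + c 1 u ∧
        c 2 (ρ x u) = c 0 u * (2 : k)⁻¹ + c 1 u + c 2 u := by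
      intro u
      refine ⟨?_, ?_, ?_⟩ <;>
      · rw [h3, map_add, map_add, map_smul, map_smul, map_smul, hc, hc, hc]
        simp
    intro u w
    rw [hβ, hβ, (h4 u).1, (h4 u).2.1, (h4 u).2.2, (h4 w).1, (h4 w).2.1, (h4 w).2.2]
    field_simp
    ring
  have hβN : ∀ g : N₁, ∀ u w, β (ρ g u) (ρ g w) = β u w := by
    intro g
    have hαα : α g⁻¹ * α g = 1 := by rw [← map_mul, inv_mul_cancel, map_one]
    obtain ⟨g0, g1, g2⟩ := hg g
    have h3 : ∀ u, ρ g u = (c 0 u * α g⁻¹) • b 0 + c 1 u • b 1 + (c 2 u * α g) • b 2 := by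
      intro u
      conv_lhs => rw [hsum u]
      rw [map_add, map_add, map_smul, map_smul, map_smul, g0, g1, g2, smul_smul, smul_smul]
    have h4 : ∀ u, c 0 (ρ g u) = c 0 u * α g⁻¹ ∧ c 1 (ρ g u) = c 1 u ∧
        c 2 (ρ g u) = c 2 u * α g := by
      intro u
      refine ⟨?_, ?_, ?_⟩ <;>
      · rw [h3, map_add, map_add, map_smul, map_smul, map_smul, hc, hc, hc]
        simp
    intro u w
    rw [hβ, hβ, (h4 u).1, (h4 u).2.1, (h4 u).2.2, (h4 w).1, (h4 w).2.1, (h4 w).2.2]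
    linear_combination (c 0 u * c 2 w + c 2 u * c 0 w) * hαα
  let S : Subgroup D :=
    { carrier := {g | ∀ u w, β (ρ g u) (ρ g w) = β u w}
      mul_mem' := fun {a b} ha hb u w => by
        rw [map_mul, Module.End.mul_apply, Module.End.mul_apply]
        exact (ha _ _).trans (hb _ _)
      one_mem' := fun u w => by rw [map_one]; rfl
      inv_mem' := fun {a} ha u w => by
        have h3 : ∀ u, ρ a (ρ a⁻¹ u) = u := fun u => by
          rw [← Module.End.mul_apply, ← map_mul, mul_inv_cancel, map_one, Module.End.one_apply]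
        have h4 := ha (ρ a⁻¹ u) (ρ a⁻¹ w)
        rw [h3, h3] at h4
        exact h4.symm }
  have hNS : ∀ g ∈ N, ∀ u w, β (ρ g u) (ρ g w) = β u w := by
    have : N ≤ S := by
      rw [hN]
      refine sup_le ?_ fun g hg => hβN ⟨g, hg⟩
      rw [Subgroup.zpowers_le]
      exact hβx
    intro g hg
    exact this hg
  have hinv := Form.invariant_of_invariant p hp ρ hx N (by rw [hN]; exact le_sup_left) hTI hΔ3 β hNS
  refine ⟨b, fun g u => ?_⟩
  have h3 := hinv g u u
  rw [hβ, hβ] at h3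
  have h4 : ∀ (i : Fin 3) (u : U), c i u = b.repr u i := fun i u => rfl
  simp only [h4] at h3
  linear_combination -h3

/-- The homomorphism to the orthogonal group. -/
theorem exists_hom_of_basis {k U D : Type*} [Field k] [AddCommGroup U] [Module k U] [Group D]
    (ρ : Representation k D U) (h2 : (2 : k) ≠ 0) (b : Basis (Fin 3) k U)
    (hb : ∀ (g : D) (u : U), b.repr (ρ g u) 1 ^ 2 - 2 * b.repr (ρ g u) 0 * b.repr (ρ g u) 2 =
        b.repr u 1 ^ 2 - 2 * b.repr u 0 * b.repr u 2) :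
    ∃ θ : D →* Cfsg.isometryGroup k (Cfsg.quadFormOdd 1 k), ∀ g, θ g = 1 → ρ g = 1 := by
  classical
  let e : Fin 3 ≃ I3 :=
    { toFun := ![.inr (.inl 0), .inl (), .inr (.inr 0)]
      invFun := fun i => match i with
        | .inl _ => 1
        | .inr (.inl _) => 0
        | .inr (.inr _) => 2
      left_inv := by intro i; fin_cases i <;> rfl
      right_inv := by rintro (i | i | i) <;> fin_cases i <;> rfl }
  let w : Fin 3 → kˣ := ![(Units.mk0 (-2 : k) (neg_ne_zero.2 h2))⁻¹, 1, 1]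
  let b' : Basis I3 k U := (b.unitsSMul w).reindex e
  have hrepr : ∀ (u : U) (i : Fin 3), b'.repr u (e i) = (((w i)⁻¹ : kˣ) : k) * b.repr u i := by
    intro u i
    rw [Basis.repr_reindex_apply, Equiv.symm_apply_apply, Basis.repr_unitsSMul]
    rfl
  have r0 : ∀ u, b'.repr u (.inr (.inl 0)) = -2 * b.repr u 0 := by
    intro u
    have h := hrepr u 0
    have hw : (((w 0)⁻¹ : kˣ) : k) = -2 := by
      show ((((Units.mk0 (-2 : k) (neg_ne_zero.2 h2))⁻¹)⁻¹ : kˣ) : k) = -2
      rw [inv_inv, Units.val_mk0]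
    rw [hw] at h
    exact h
  have r1 : ∀ u, b'.repr u (.inl ()) = b.repr u 1 := by
    intro u
    have h := hrepr u 1
    have hw : (((w 1)⁻¹ : kˣ) : k) = 1 := by
      show (((1 : kˣ)⁻¹ : kˣ) : k) = 1
      rw [inv_one, Units.val_one]
    rw [hw, one_mul] at h
    exact h
  have r2 : ∀ u, b'.repr u (.inr (.inr 0)) = b.repr u 2 := by
    intro u
    have h := hrepr u 2
    have hw : (((w 2)⁻¹ : kˣ) : k) = 1 := by
      show (((1 : kˣ)⁻¹ : kˣ) : k) = 1
      rw [inv_one, Units.val_one]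
    rw [hw, one_mul] at h
    exact h
  have hQ : ∀ u, Cfsg.quadFormOdd 1 k (b'.repr u) = b.repr u 1 ^ 2 - 2 * b.repr u 0 * b.repr u 2 := by
    intro u
    unfold Cfsg.quadFormOdd
    rw [Fin.sum_univ_one, r0, r1, r2]
    ring
  let M : D →* Matrix I3 I3 k :=
    ((LinearMap.toMatrixAlgEquiv b' : _ ≃ₐ[k] _).toMulEquiv.toMonoidHom).comp ρ
  have hM : ∀ g, M g = LinearMap.toMatrixAlgEquiv b' (ρ g) := fun g => rfl
  have hMv : ∀ g u, M g *ᵥ (b'.repr u) = b'.repr (ρ g u) := by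
    intro g u
    rw [hM]
    exact LinearMap.toMatrix_mulVec_repr b' b' (ρ g) u
  let θ : D →* Cfsg.isometryGroup k (Cfsg.quadFormOdd 1 k) :=
    M.toHomUnits.codRestrict _ (fun g => by
      rw [mem_isometryGroup_iff]
      intro v
      obtain ⟨u, hu⟩ : ∃ u : U, (b'.repr u : I3 → k) = v :=
        ⟨b'.equivFun.symm v, b'.equivFun.apply_symm_apply v⟩
      rw [← hu]
      show Cfsg.quadFormOdd 1 k (M g *ᵥ (b'.repr u)) = _
      rw [hMv, hQ, hQ, hb])
  refine ⟨θ, fun g hg => ?_⟩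
  have h1 : M g = 1 := by
    have := congrArg (fun t : Cfsg.isometryGroup k (Cfsg.quadFormOdd 1 k) =>
      ((t : GeneralLinearGroup I3 k) : Matrix I3 I3 k)) hg
    exact this
  apply (LinearMap.toMatrixAlgEquiv b').injective
  rw [← hM, h1, map_one]

section

variable {k V D : Type*} [Field k] [AddCommGroup V] [Module k V] [FiniteDimensional k V] [Group D]
  [Finite D]

theorem exists_theta_seven (p : ℕ) [Fact p.Prime] [CharP k p] (ρ : Representation k D V)
    (hρ : Function.Injective ρ) (hp7 : 7 ≤ p) (hdim : 2 * Module.finrank k V < p) (P : Sylow p D)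
    (hP : Nat.card P = p) {x : D} (hx : x ∈ (P : Subgroup D)) (hx1 : x ≠ 1) :
    ∃ θ : D →* Cfsg.isometryGroup k (Cfsg.quadFormOdd 1 k), θ x ≠ 1 := by
  have hp : p.Prime := Fact.out
  have hPx := ThmC1.zpowers_eq P hP hx hx1
  have hxo : orderOf x = p := orderOf_eq_prime (ThmC1.pow_eq_one_of_mem P hP hx) hx1
  obtain ⟨N₁, hcard, hN₁, hN⟩ := ThmC2.exists_complement P hP hx hx1
  obtain ⟨α, hα⟩ := Triple.exists_alpha (k := k) p hxo N₁ hN₁
  obtain ⟨σ, v, hv3, hv2, hspan, hvα⟩ := ThmC2.exists_sub p ρ hρ (by omega) hdim P hP hx hx1 hcard hα hN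
  obtain ⟨h2, hx', b, hb⟩ := exists_form_basis p hp7 σ.toRepresentation hxo N₁ hα
    (Subgroup.normalizer ((P : Subgroup D) : Set D)) hN (by
      intro g hg y hy hyg
      rw [hPx] at hy
      exact EndRep.ti_of_card p P hP g hg y hy hyg) v hv3 hv2 hspan hvα
  obtain ⟨θ, hθ⟩ := exists_hom_of_basis σ.toRepresentation h2 b hb
  exact ⟨θ, fun h => hx' (hθ x h)⟩

theorem two_le_finrank (p : ℕ) [Fact p.Prime] [CharP k p] (ρ : Representation k D V)
    {x : D} (hxp : x ^ p = 1) (hx : ρ x ≠ 1) : 2 ≤ Module.finrank k V := by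
  by_contra hlt
  have h1 := EndRep.sub_one_pow_eq_zero p ρ hxp
  apply hx
  have h2 : (ρ x - 1 : Module.End k V) ^ 1 = 0 := by
    rw [← Nat.sub_add_cancel (show Module.finrank k V ≤ 1 by omega), pow_add, h1, mul_zero]
  rw [pow_one] at h2
  exact sub_eq_zero.1 h2

/-- Degree two. -/
theorem exists_theta_two (p : ℕ) [Fact p.Prime] [CharP k p] (ρ : Representation k D V)
    (hρ : Function.Injective ρ) (hdim : Module.finrank k V = 2)
    {x : D} (hxp : x ^ p = 1) (hx1 : x ≠ 1) :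
    ∃ θ : D →* Cfsg.isometryGroup k (Cfsg.quadFormOdd 1 k), θ x ≠ 1 := by
  classical
  let b : Basis (Fin 2) k V := finBasisOfFinrankEq k V hdim
  let M : D →* Matrix (Fin 2) (Fin 2) k :=
    ((LinearMap.toMatrixAlgEquiv b : _ ≃ₐ[k] _).toMulEquiv.toMonoidHom).comp ρ
  have hM : Function.Injective M := (LinearMap.toMatrixAlgEquiv b).injective.comp hρ
  let θ : D →* Cfsg.isometryGroup k (Cfsg.quadFormOdd 1 k) :=
    (phi.comp M.toHomUnits).codRestrict _ (fun g => phi_mem _)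
  refine ⟨θ, fun h => hx1 (hM ?_)⟩
  have h1 : phi (M.toHomUnits x) = 1 := congrArg Subtype.val h
  obtain ⟨e1, e2, e3⟩ := Cfsg.Agent.LieClassical.OrthThreeOmega.scalar_of_phi_eq_one h1
  have h01 : M x 0 1 = 0 := e1
  have h10 : M x 1 0 = 0 := e2
  have h00 : M x 0 0 = M x 1 1 := e3
  have hMx : M x = M x 0 0 • (1 : Matrix (Fin 2) (Fin 2) k) := by
    ext i j
    fin_cases i <;> fin_cases j <;> simp [h01, h10, h00]
  have h3 : (M x 0 0) ^ p = 1 := by
    have h4 : M x ^ p = 1 := by rw [← map_pow, hxp, map_one]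
    rw [hMx, smul_pow, one_pow] at h4
    have h5 := congrFun (congrFun h4 0) 0
    simpa using h5
  have h4 : M x 0 0 = 1 := by
    have h5 : (M x 0 0 - 1) ^ p = 0 := by rw [sub_pow_char, h3, one_pow, sub_self]
    exact sub_eq_zero.1 (pow_eq_zero_iff (Fact.out : p.Prime).ne_zero |>.1 h5)
  rw [hMx, h4, one_smul, map_one]

/-- **The homomorphism to `O₃`.** -/
theorem exists_theta (p : ℕ) [Fact p.Prime] [CharP k p] (ρ : Representation k D V)
    (hρ : Function.Injective ρ) (hdim : 2 * Module.finrank k V < p) (P : Sylow p D)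
    (hP : Nat.card P = p) {x : D} (hx : x ∈ (P : Subgroup D)) (hx1 : x ≠ 1) :
    5 ≤ p ∧ ∃ θ : D →* Cfsg.isometryGroup k (Cfsg.quadFormOdd 1 k), θ x ≠ 1 := by
  have hp : p.Prime := Fact.out
  have hxp := ThmC1.pow_eq_one_of_mem P hP hx
  have hρx : ρ x ≠ 1 := fun h => hx1 (hρ (by rw [h, map_one]))
  have hn := two_le_finrank p ρ hxp hρx
  have hp5 : 5 ≤ p := by omega
  refine ⟨hp5, ?_⟩
  by_cases hp7 : 7 ≤ p
  · exact exists_theta_seven p ρ hρ hp7 hdim P hP hx hx1
  · exact exists_theta_two p ρ hρ (by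
      have : p ≠ 6 := by rintro rfl; revert hp; decide
      omega) hxp hx1

end

end Cfsg.Agent.H607.Three
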