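import Mathlib
import Cfsg.Agent.H607.Three
import Cfsg.Agent.H607.Ident
import Cfsg.Agent.H607.Eigen
import Cfsg.Agent.LieRecognition.FT61.Red
import Cfsg.Agent.LieRecognition.FT61.ThmC

/-!
# Groups with a Sylow `p`-subgroup of order `p` and a faithful representation of degree `< p / 2` (helper607)

`modular`: characteristic `p`; either the Sylow `p`-subgroup is normal or `G / K` is `PSL(2,p)` or `PGL(2,p)` for a
normal subgroup `K` centralizing it.
`ordinary`: complex representations (reduction modulo `p`).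
-/

set_option autoImplicit false

namespace Cfsg.Agent.H607.Faithful

open Module Matrix MulAction
open Cfsg.Agent.LieRecognition.FT61
open Cfsg.Agent.ClassicalGeometry.PoleCount Cfsg.Agent.ClassicalGeometry.PoleCount.Pole
open Cfsg.Agent.ClassicalGeometry.PoleBridge

section modular

variable {k V D : Type*} [Field k] [AddCommGroup V] [Module k V] [FiniteDimensional k V] [Group D]
  [Finite D]

/-- If `N_H(P)` centralizes `x` for a subgroup `H` containing `P`, then `H` centralizes `x`. -/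
theorem comm_of_sub (p : ℕ) [Fact p.Prime] [CharP k p] (ρ : Representation k D V)
    (hρ : Function.Injective ρ) (hdim : 2 * Module.finrank k V < p) (P : Sylow p D)
    (hP : Nat.card P = p) {x : D} (hx : x ∈ (P : Subgroup D)) (H : Subgroup D)
    (hPH : (P : Subgroup D) ≤ H)
    (hcomm : ∀ g ∈ H, g ∈ Subgroup.normalizer ((P : Subgroup D) : Set D) → g * x = x * g) :
    ∀ g ∈ H, g * x = x * g := by
  let PH : Sylow p H := P.subtype hPH
  have hPHcard : Nat.card PH = p :=
    (Nat.card_congr (Subgroup.subgroupOfEquivOfLe hPH).toEquiv).trans hP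
  have hxH : x ∈ H := hPH hx
  intro g hg
  have h1 := ThmC1.central_of_le p (MonoidHom.comp ρ H.subtype) (hρ.comp H.subtype_injective) hdim PH
    hPHcard (x := ⟨x, hxH⟩) hx (by
      intro g hgN
      apply Subtype.ext
      refine hcomm g g.2 ?_
      rw [Subgroup.mem_normalizer_iff_map_conj_eq]
      apply Subgroup.eq_of_le_of_card_ge
      · rintro _ ⟨y, hy, rfl⟩
        have h2 := ((Subgroup.mem_normalizer_iff.1 hgN) ⟨y, hPH hy⟩).1 hy
        exact h2
      · rw [Subgroup.card_map_of_injective (MulEquiv.injective _)]) ⟨g, hg⟩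
  exact congrArg Subtype.val h1

/-- If `H` is normal, contains `P` and `N_H(P)` centralizes `x`, then `P` is normal. -/
theorem normal_of_sub (p : ℕ) [Fact p.Prime] [CharP k p] (ρ : Representation k D V)
    (hρ : Function.Injective ρ) (hdim : 2 * Module.finrank k V < p) (P : Sylow p D)
    (hP : Nat.card P = p) {x : D} (hx : x ∈ (P : Subgroup D)) (hx1 : x ≠ 1) (H : Subgroup D)
    (hHn : H.Normal) (hPH : (P : Subgroup D) ≤ H)
    (hcomm : ∀ g ∈ H, g ∈ Subgroup.normalizer ((P : Subgroup D) : Set D) → g * x = x * g) :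
    (P : Subgroup D).Normal := by
  have hcentH := comm_of_sub p ρ hρ hdim P hP hx H hPH hcomm
  have hPx := ThmC1.zpowers_eq P hP hx hx1
  apply ThmC.normal_of_conj_mem p P hP hx hx1
  intro g
  have h1 : g * x * g⁻¹ ∈ H := hHn.conj_mem x (hPH hx) g
  have h2 := hcentH _ h1
  rw [Subgroup.mem_normalizer_iff]
  have h3 : ∀ y ∈ (P : Subgroup D), (g * x * g⁻¹) * y * (g * x * g⁻¹)⁻¹ = y := by
    intro y hy
    rw [← hPx] at hy
    obtain ⟨n, rfl⟩ := hy
    have h4 : Commute (g * x * g⁻¹) (x ^ n) := (show Commute (g * x * g⁻¹) x from h2).zpow_right n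
    show g * x * g⁻¹ * x ^ n * (g * x * g⁻¹)⁻¹ = x ^ n
    rw [h4.eq, mul_inv_cancel_right]
  intro y
  constructor
  · intro hy
    rw [h3 y hy]
    exact hy
  · intro hy
    have h4 := h3 _ hy
    have h5 : g * x * g⁻¹ * y * (g * x * g⁻¹)⁻¹ = y := by
      have h6 := mul_left_cancel (mul_right_cancel h4)
      exact h6
    rwa [h5] at hy

/-- A normal subgroup not containing `x` centralizes `x`. -/
theorem comm_of_normal (p : ℕ) [Fact p.Prime] [CharP k p] (ρ : Representation k D V)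
    (hρ : Function.Injective ρ) (hdim : 2 * Module.finrank k V < p) (P : Sylow p D)
    (hP : Nat.card P = p) {x : D} (hx : x ∈ (P : Subgroup D)) (K : Subgroup D) [K.Normal]
    (hxK : x ∉ K) : ∀ g ∈ K, g * x = x * g := by
  have hx1 : x ≠ 1 := by
    rintro rfl
    exact hxK K.one_mem
  have hPx := ThmC1.zpowers_eq P hP hx hx1
  have hPK : ∀ y ∈ (P : Subgroup D), y ∈ K → y = 1 := by
    intro y hy hyK
    by_contra hy1
    have h1 := ThmC1.zpowers_eq P hP hy hy1
    rw [← h1] at hx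
    exact hxK ((Subgroup.zpowers_le.2 hyK) hx)
  intro g hg
  refine comm_of_sub p ρ hρ hdim P hP hx (K ⊔ P) le_sup_right ?_ g ((le_sup_left : K ≤ _) hg)
  intro g hg hgN
  have h0 : (g : D) ∈ ((K ⊔ (P : Subgroup D) : Subgroup D) : Set D) := hg
  rw [Subgroup.normal_mul] at h0
  obtain ⟨c, hc, y, hy, rfl⟩ := h0
  have hc : c ∈ K := hc
  have hy : y ∈ (P : Subgroup D) := hy
  have hyx : y * x = x * y := by
    rw [← hPx] at hy
    obtain ⟨n, rfl⟩ := hy
    exact ((Commute.refl x).zpow_left n).eq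
  have hcN : c ∈ Subgroup.normalizer ((P : Subgroup D) : Set D) := by
    have h1 := Subgroup.mul_mem _ hgN (Subgroup.inv_mem _ (Subgroup.le_normalizer hy))
    have h2 : (c * y) * y⁻¹ = c := by group
    rwa [h2] at h1
  have h1 : c * x * c⁻¹ ∈ (P : Subgroup D) := ((Subgroup.mem_normalizer_iff.1 hcN) x).1 hx
  have h2 : c * x * c⁻¹ * x⁻¹ ∈ K := by
    have h3 : x * c⁻¹ * x⁻¹ ∈ K := ‹K.Normal›.conj_mem _ (K.inv_mem hc) x
    have h4 : c * x * c⁻¹ * x⁻¹ = c * (x * c⁻¹ * x⁻¹) := by group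
    rw [h4]
    exact K.mul_mem hc h3
  have h4 := hPK _ ((P : Subgroup D).mul_mem h1 ((P : Subgroup D).inv_mem hx)) h2
  have h5 : c * x = x * c := by
    rw [mul_inv_eq_one, mul_inv_eq_iff_eq_mul] at h4
    exact h4
  show c * y * x = x * (c * y)
  rw [mul_assoc, hyx, ← mul_assoc, h5, mul_assoc]

/-- **Characteristic `p`.** -/
theorem modular (p : ℕ) [Fact p.Prime] [CharP k p] [IsAlgClosed k] (ρ : Representation k D V)
    (hρ : Function.Injective ρ) (hdim : 2 * Module.finrank k V < p) (P : Sylow p D)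
    (hP : Nat.card P = p) (hsq : ¬ p ^ 2 ∣ Nat.card D) {x : D} (hx : x ∈ (P : Subgroup D)) (hx1 : x ≠ 1)
    (hnn : ¬ (P : Subgroup D).Normal) :
    5 ≤ p ∧ ∃ (d : ℕ) (A : Finset ℕ) (K : Subgroup D) (_ : K.Normal),
      d ≤ A.card ∧ (∀ a ∈ A, a < p ∧ ∃ g : D, g * x * g⁻¹ = x ^ a) ∧ (∀ g ∈ K, g * x = x * g) ∧
      ((d = p - 1 ∧ Nonempty (D ⧸ K ≃* Matrix.ProjGenLinGroup (Fin 2) (ZMod p))) ∨
        (2 * d = p - 1 ∧ Nonempty (D ⧸ K ≃* Matrix.ProjectiveSpecialLinearGroup (Fin 2) (ZMod p)))) := by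
  classical
  have hp : p.Prime := Fact.out
  obtain ⟨hp5, θ, hθ⟩ := Three.exists_theta p ρ hρ hdim P hP hx hx1
  refine ⟨hp5, ?_⟩
  have h2 : (2 : k) ≠ 0 := by
    intro h
    have h1 : ((2 : ℕ) : k) = 0 := by exact_mod_cast h
    rw [CharP.cast_eq_zero_iff k p] at h1
    have := Nat.le_of_dvd (by norm_num) h1
    omega
  have hxp : x ^ p = 1 := ThmC1.pow_eq_one_of_mem P hP hx
  let φ : D →* ProjectiveSpecialLinearGroup (Fin 2) k := (OrthHom.toPSL h2).comp θ
  have hφx : φ x ≠ 1 := OrthHom.toPSL_ne_one h2 (n := p) (hp.odd_of_ne_two (by omega))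
    (by rw [← map_pow, hxp, map_one]) hθ
  let K : Subgroup D := φ.ker
  have hxK : x ∉ K := hφx
  have hKx := comm_of_normal p ρ hρ hdim P hP hx K hxK
  -- the quotient
  let ψ : D ⧸ K →* ProjectiveSpecialLinearGroup (Fin 2) k := QuotientGroup.kerLift φ
  have hψ : Function.Injective ψ := QuotientGroup.kerLift_injective φ
  letI := act ψ
  have h : Pole p k (D ⧸ K) (OnePoint k) := pole_of_injective p ψ hψ
  set u : D ⧸ K := (x : D ⧸ K) with hu
  have hu1 : u ≠ 1 := by
    intro h1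
    exact hxK ((QuotientGroup.eq_one_iff x).1 h1)
  have hup : u ^ p = 1 := by
    rw [hu, ← QuotientGroup.mk_pow, hxp, QuotientGroup.mk_one]
  have hsq' : ¬ p ^ 2 ∣ Nat.card (D ⧸ K) := fun h1 => hsq (h1.trans (Subgroup.card_quotient_dvd_card K))
  obtain ⟨x₀, hx₀⟩ := h.one u hu1 hup
  have hux : u • x₀ = x₀ := (hx₀ x₀).2 rfl
  have hxO : x₀ ∈ Op p (D ⧸ K) (OnePoint k) := ⟨u, hu1, hup, hux⟩
  by_cases hr : 2 ≤ (Op p (D ⧸ K) (OnePoint k)).ncard
  · obtain ⟨d, hd, hcard, hst, hOp⟩ := Count.exists_d h hp5 hsq' hxO hr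
    obtain ⟨A, hA, hAg⟩ := Count.exists_A h hsq' hu1 hup hux hst
    refine ⟨d, A, K, inferInstance, hA, ?_, hKx, Ident.ident h hp5 hsq' hxO hr hd hcard hOp⟩
    intro a ha
    obtain ⟨h1, g, hg⟩ := hAg a ha
    refine ⟨h1, ?_⟩
    obtain ⟨g, rfl⟩ := QuotientGroup.mk_surjective g
    refine ⟨g, ?_⟩
    have h3 : (x ^ a)⁻¹ * (g * x * g⁻¹) ∈ K := by
      rw [← QuotientGroup.eq_one_iff]
      have h4 : (((x ^ a)⁻¹ * (g * x * g⁻¹) : D) : D ⧸ K) =
        ((x : D ⧸ K) ^ a)⁻¹ * ((g : D ⧸ K) * (x : D ⧸ K) * (g : D ⧸ K)⁻¹) := rfl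
      rw [h4, ← hu, hg, inv_mul_cancel]
    set c := (x ^ a)⁻¹ * (g * x * g⁻¹) with hc
    have h4 : g * x * g⁻¹ = x ^ a * c := by rw [hc]; group
    have hcx : Commute c (x ^ a) := (show Commute c x from hKx c h3).pow_right a
    have h5 : c ^ p = 1 := by
      have h6 : (g * x * g⁻¹) ^ p = 1 := by rw [conj_pow, hxp, mul_one, mul_inv_cancel]
      rw [h4, hcx.symm.mul_pow, ← pow_mul, mul_comm a p, pow_mul, hxp, one_pow, one_mul] at h6
      exact h6
    have h6 : c = 1 := by
      by_contra hc1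
      -- then `p` divides the order of `K` and `x ∈ K`
      have h7 : orderOf c = p := orderOf_eq_prime h5 hc1
      have h8 : p ∣ Nat.card K := by
        rw [← h7, ← Subgroup.orderOf_mk c h3]
        exact orderOf_dvd_natCard _
      have h9 : p ∣ Nat.card (D ⧸ K) := by
        rw [← orderOf_eq_prime hup hu1]
        exact orderOf_dvd_natCard _
      apply hsq
      rw [sq, Subgroup.card_eq_card_quotient_mul_card_subgroup K]
      exact mul_dvd_mul h9 h8
    rw [h4, h6, mul_one]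
  · exfalso
    have hn := Count.normal_of_ncard h hsq' hu1 hup hux hr
    apply hnn
    obtain ⟨H, hHn, hPH, hcomm⟩ := ThmC.exists_normal_of_quotient p P hP hx K hxK (by
      intro P' hP'
      have h1 : Subgroup.zpowers u ≤ (P' : Subgroup (D ⧸ K)) := by
        have h2 : IsPGroup p (Subgroup.zpowers u) := by
          rw [IsPGroup.iff_card]
          exact ⟨1, by rw [Nat.card_zpowers, orderOf_eq_prime hup hu1, pow_one]⟩
        have h3 := h2.to_sup_of_normal_left P'.isPGroup'
        have h4 := P'.is_maximal' h3 le_sup_right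
        rw [← h4]
        exact le_sup_left
      have h2 : Subgroup.zpowers u = (P' : Subgroup (D ⧸ K)) := by
        apply Subgroup.eq_of_le_of_card_ge h1
        have h3 : Nat.card (P' : Subgroup (D ⧸ K)) = p := hP'
        rw [h3, Nat.card_zpowers, orderOf_eq_prime hup hu1]
      rw [← h2]
      exact hn)
    exact normal_of_sub p ρ hρ hdim P hP hx hx1 H hHn hPH hcomm

end modular

end Cfsg.Agent.H607.Faithful
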