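import Mathlib
import Cfsg.Agent.H607.Ordinary

/-!
# Brauer's theorem in terms of characters (helper607)
-/

set_option autoImplicit false

namespace Cfsg.Agent.H607.FromChar

theorem main {G : Type*} [Group G] [Finite G] (p : ℕ) (hp : p.Prime) (hdiv : p ∣ Nat.card G)
    (hsq : ¬ p ^ 2 ∣ Nat.card G) (hnn : ∀ H : Subgroup G, H.Normal → Nat.card H ≠ p) (χ : G → ℂ)
    (hχ : Cfsg.IsCharacter G χ) (hfaith : ∀ g : G, χ g = χ 1 → g = 1)
    (hdeg : 2 * Cfsg.charDegree χ < p) : 2 * Cfsg.charDegree χ + 1 = p ∧
      Nonempty ((G ⧸ Subgroup.center G) ≃* Matrix.ProjectiveSpecialLinearGroup (Fin 2) (ZMod p)) := by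
  have : Fact p.Prime := ⟨hp⟩
  obtain ⟨n, σ, rfl⟩ := hχ
  have hn : Cfsg.charDegree σ.character = n := by
    unfold Cfsg.charDegree
    rw [Representation.char_one, Module.finrank_fintype_fun_eq_card, Fintype.card_fin, Complex.natCast_re,
      Nat.floor_natCast]
  rw [hn] at hdeg ⊢
  have hσ : Function.Injective σ := by
    rw [injective_iff_map_eq_one]
    intro g hg
    apply hfaith
    unfold Representation.character
    rw [hg, map_one σ]
  obtain ⟨P⟩ : Nonempty (Sylow p G) := inferInstance
  have hP : Nat.card P = p := by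
    rw [P.card_eq_multiplicity]
    have h1 : (Nat.card G).factorization p = 1 := by
      have h2 : (Nat.card G).factorization p ≠ 0 := by
        rw [Ne, Nat.factorization_eq_zero_iff]
        push Not
        exact ⟨hp, hdiv, Nat.card_pos.ne'⟩
      have h3 : (Nat.card G).factorization p < 2 := by
        by_contra h4
        exact hsq ((hp.pow_dvd_iff_le_factorization Nat.card_pos.ne').2 (not_lt.1 h4))
      omega
    rw [h1, pow_one]
  exact Ordinary.main p σ hσ hsq P hP (fun h => hnn _ h hP) hdeg

end Cfsg.Agent.H607.FromChar
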